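import Cfsg.Agent.Lib.CosetTable.Sound
import Cfsg.Agent.Lib.CosetTable.J2LevelX.Data

/-! Generated certificate data for the coset table `J2LevelX`. -/

namespace Cfsg.Agent.Lib.CosetTable.J2LevelX

open Cfsg.Agent.Lib.CosetTable

set_option Elab.async false
set_option maxRecDepth 10000

theorem rows_ok_run1 : rangeAll (tab.rowOK cert 57785) 512 0 = true := by decide +kernel

theorem rows_ok_run2 : rangeAll (tab.rowOK cert 57785) 512 512 = true := by decide +kernel

theorem rows_ok_run3 : rangeAll (tab.rowOK cert 57785) 512 1024 = true := by decide +kernel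

theorem rows_ok_run4 : rangeAll (tab.rowOK cert 57785) 512 1536 = true := by decide +kernel

theorem rows_ok_run5 : rangeAll (tab.rowOK cert 57785) 512 2048 = true := by decide +kernel

theorem rows_ok_run6 : rangeAll (tab.rowOK cert 57785) 512 2560 = true := by decide +kernel

theorem rows_ok_run7 : rangeAll (tab.rowOK cert 57785) 512 3072 = true := by decide +kernel

theorem rows_ok_run8 : rangeAll (tab.rowOK cert 57785) 512 3584 = true := by decide +kernel

theorem rows_ok_run9 : rangeAll (tab.rowOK cert 57785) 512 4096 = true := by decide +kernel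

theorem rows_ok_run10 : rangeAll (tab.rowOK cert 57785) 512 4608 = true := by decide +kernel

theorem rows_ok_run11 : rangeAll (tab.rowOK cert 57785) 512 5120 = true := by decide +kernel

theorem rows_ok_run12 : rangeAll (tab.rowOK cert 57785) 512 5632 = true := by decide +kernel

theorem rows_ok_run13 : rangeAll (tab.rowOK cert 57785) 512 6144 = true := by decide +kernel

theorem rows_ok_run14 : rangeAll (tab.rowOK cert 57785) 512 6656 = true := by decide +kernel

theorem rows_ok_run15 : rangeAll (tab.rowOK cert 57785) 512 7168 = true := by decide +kernel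

theorem rows_ok_run16 : rangeAll (tab.rowOK cert 57785) 512 7680 = true := by decide +kernel

theorem rows_ok_run17 : rangeAll (tab.rowOK cert 57785) 512 8192 = true := by decide +kernel

theorem rows_ok_run18 : rangeAll (tab.rowOK cert 57785) 512 8704 = true := by decide +kernel

theorem rows_ok_run19 : rangeAll (tab.rowOK cert 57785) 512 9216 = true := by decide +kernel

theorem rows_ok_run20 : rangeAll (tab.rowOK cert 57785) 512 9728 = true := by decide +kernel

theorem rows_ok_run21 : rangeAll (tab.rowOK cert 57785) 512 10240 = true := by decide +kernel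

theorem rows_ok_run22 : rangeAll (tab.rowOK cert 57785) 512 10752 = true := by decide +kernel

theorem rows_ok_run23 : rangeAll (tab.rowOK cert 57785) 512 11264 = true := by decide +kernel

theorem rows_ok_run24 : rangeAll (tab.rowOK cert 57785) 512 11776 = true := by decide +kernel

theorem rows_ok_run25 : rangeAll (tab.rowOK cert 57785) 512 12288 = true := by decide +kernel

theorem rows_ok_run26 : rangeAll (tab.rowOK cert 57785) 512 12800 = true := by decide +kernel

theorem rows_ok_run27 : rangeAll (tab.rowOK cert 57785) 512 13312 = true := by decide +kernel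

theorem rows_ok_run28 : rangeAll (tab.rowOK cert 57785) 512 13824 = true := by decide +kernel

theorem rows_ok_run29 : rangeAll (tab.rowOK cert 57785) 512 14336 = true := by decide +kernel

theorem rows_ok_run30 : rangeAll (tab.rowOK cert 57785) 512 14848 = true := by decide +kernel

theorem rows_ok_run31 : rangeAll (tab.rowOK cert 57785) 512 15360 = true := by decide +kernel

theorem rows_ok_run32 : rangeAll (tab.rowOK cert 57785) 512 15872 = true := by decide +kernel

theorem rows_ok_run33 : rangeAll (tab.rowOK cert 57785) 512 16384 = true := by decide +kernel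

theorem rows_ok_run34 : rangeAll (tab.rowOK cert 57785) 512 16896 = true := by decide +kernel

theorem rows_ok_run35 : rangeAll (tab.rowOK cert 57785) 512 17408 = true := by decide +kernel

theorem rows_ok_run36 : rangeAll (tab.rowOK cert 57785) 512 17920 = true := by decide +kernel

theorem rows_ok_run37 : rangeAll (tab.rowOK cert 57785) 468 18432 = true := by decide +kernel

theorem rows_ok : Below (tab.rowOK cert 57785) 18900 :=
  (((((((((((((((((((((((((((((((((((((Below.zero _).step (b := 512) rows_ok_run1 rfl).step (b := 1024) rows_ok_run2 rfl).step (b := 1536) rows_ok_run3 rfl).step (b := 2048) rows_ok_run4 rfl).step (b := 2560) rows_ok_run5 rfl).step (b := 3072) rows_ok_run6 rfl).step (b := 3584) rows_ok_run7 rfl).step (b := 4096) rows_ok_run8 rfl).step (b := 4608) rows_ok_run9 rfl).step (b := 5120) rows_ok_run10 rfl).step (b := 5632) rows_ok_run11 rfl).step (b := 6144) rows_ok_run12 rfl).step (b := 6656) rows_ok_run13 rfl).step (b := 7168) rows_ok_run14 rfl).step (b := 7680) rows_ok_run15 rfl).step (b := 8192) rows_ok_run16 rfl).step (b := 8704) rows_ok_run17 rfl).step (b := 9216) rows_ok_run18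 rfl).step (b := 9728) rows_ok_run19 rfl).step (b := 10240) rows_ok_run20 rfl).step (b := 10752) rows_ok_run21 rfl).step (b := 11264) rows_ok_run22 rfl).step (b := 11776) rows_ok_run23 rfl).step (b := 12288) rows_ok_run24 rfl).step (b := 12800) rows_ok_run25 rfl).step (b := 13312) rows_ok_run26 rfl).step (b := 13824) rows_ok_run27 rfl).step (b := 14336) rows_ok_run28 rfl).step (b := 14848) rows_ok_run29 rfl).step (b := 15360) rows_ok_run30 rfl).step (b := 15872) rows_ok_run31 rfl).step (b := 16384) rows_ok_run32 rfl).step (b := 16896) rows_ok_run33 rfl).step (b := 17408) rows_ok_run34 rfl).step (b := 17920) rows_ok_run35 rfl).step (b := 18432) rows_ok_run36 rfl).step (b := 18900) rows_ok_run37 rfl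

end Cfsg.Agent.Lib.CosetTable.J2LevelX
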